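import Mathlib
import Cfsg.Prelude.Def_TwoFusion
import Cfsg.Agent.Lib.Involutions.Basic

/-!
Isolated involutions: products of two conjugates have odd order, square roots, decomposition.
-/

set_option autoImplicit false

namespace Cfsg.Agent.Lib.IsolatedInvolution.Basic

open Cfsg.Agent.Lib.Involutions.Basic

variable {G : Type*} [Group G] {z : G}

theorem conj_isolated (hz : Cfsg.IsIsolatedInvolution z) (a : G) :
    Cfsg.IsIsolatedInvolution (a * z * a⁻¹) := by
  refine ⟨(orderOf_conj_eq a z).trans hz.1, fun g hc => ?_⟩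
  have e : g * (a * z * a⁻¹) * g⁻¹ = a * ((a⁻¹ * g * a) * z * (a⁻¹ * g * a)⁻¹) * a⁻¹ := by group
  rw [e] at hc ⊢
  rw [hz.2 (a⁻¹ * g * a) ?_]
  have := hc.map (MulAut.conj a⁻¹).toMonoidHom
  simpa [MulAut.conj_apply, mul_assoc] using this

theorem isolated_of_isConj (hz : Cfsg.IsIsolatedInvolution z) {s : G} (hs : IsConj z s) :
    Cfsg.IsIsolatedInvolution s := by
  obtain ⟨a, rfl⟩ := isConj_iff.1 hs
  exact conj_isolated hz a

/-- Two commuting conjugates of an isolated involution are equal. -/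
theorem eq_of_commute (hz : Cfsg.IsIsolatedInvolution z) {s t : G} (hs : IsConj z s)
    (ht : IsConj z t) (h : Commute s t) : s = t := by
  obtain ⟨g, hg⟩ := isConj_iff.1 (hs.symm.trans ht)
  have := (isolated_of_isConj hz hs).2 g (hg ▸ h)
  rw [hg] at this
  exact this.symm

variable [Finite G]

/-- The product of two conjugates of an isolated involution has odd order. -/
theorem odd_orderOf_mul (hz : Cfsg.IsIsolatedInvolution z) {s t : G} (hs : IsConj z s)
    (ht : IsConj z t) : Odd (orderOf (s * t)) := by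
  have hso := (isolated_of_isConj hz hs).1
  have hto := (isolated_of_isConj hz ht).1
  have hss := invol_mul_self hso
  have htt := invol_mul_self hto
  rw [← Nat.not_even_iff_odd]
  intro heven
  obtain ⟨hv, hvs, -⟩ := central_invol hso hto heven
  set m := orderOf (s * t) / 2 with hm
  have hinv := invert_mul hss htt
  have key : ∀ j : ℤ, (s * t) ^ j * s * ((s * t) ^ j)⁻¹ = s * (s * t) ^ (-2 * j) := by
    intro j
    rw [invert_comm hss hinv, ← zpow_neg, mul_assoc, ← zpow_add]
    congr 2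
    ring
  have key2 : ∀ j : ℤ, (s * t) ^ j * t * ((s * t) ^ j)⁻¹ = s * (s * t) ^ (1 - 2 * j) := by
    intro j
    have e : t = s * (s * t) := by rw [← mul_assoc, hss, one_mul]
    conv_lhs => arg 1; arg 2; rw [e]
    rw [← mul_assoc, invert_comm hss hinv, mul_assoc s, ← zpow_neg, mul_assoc]
    nth_rw 2 [← zpow_one (s * t)]
    rw [← zpow_add, ← zpow_add]
    congr 2
    ring
  have hconj : IsConj z (s * (s * t) ^ m) := by
    rcases Nat.even_or_odd m with ⟨j, hj⟩ | ⟨j, hj⟩
    · refine hs.trans (isConj_iff.2 ⟨(s * t) ^ (-(j : ℤ)), ?_⟩)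
      rw [key, ← zpow_natCast (s * t) m, hj]
      congr 2
      push_cast
      ring
    · refine ht.trans (isConj_iff.2 ⟨(s * t) ^ (-(j : ℤ)), ?_⟩)
      rw [key2, ← zpow_natCast (s * t) m, hj]
      congr 2
      push_cast
      ring
  have heq := eq_of_commute hz hs hconj ((Commute.refl s).mul_right hvs.symm)
  exact invol_ne_one hv (left_eq_mul.1 heq)

/-- The odd-order element of `zpowers (t * s)` which conjugates `s` to `t`. -/
noncomputable def half (t s : G) : G := (t * s) ^ ((orderOf (t * s) + 1) / 2)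

theorem half_mem_zpowers (t s : G) : half t s ∈ Subgroup.zpowers (t * s) :=
  pow_mem (Subgroup.mem_zpowers _) _

theorem half_sq {t s : G} (h : Odd (orderOf (t * s))) : half t s * half t s = t * s := by
  obtain ⟨m, hm⟩ := h
  rw [half, ← pow_add, hm, show (2 * m + 1 + 1) / 2 + (2 * m + 1 + 1) / 2 = (2 * m + 1) + 1 by
    omega, pow_succ, ← hm, pow_orderOf_eq_one, one_mul]

theorem odd_orderOf_half {t s : G} (h : Odd (orderOf (t * s))) : Odd (orderOf (half t s)) :=
  h.of_dvd_nat (orderOf_dvd_of_mem_zpowers (half_mem_zpowers t s))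

theorem half_inverted {t s : G} (ht : t * t = 1) (hs : s * s = 1) :
    s * half t s * s⁻¹ = (half t s)⁻¹ := by
  have hsi : s⁻¹ = s := inv_eq_of_mul_eq_one_right hs
  have hti : t⁻¹ = t := inv_eq_of_mul_eq_one_right ht
  rw [half, ← conj_pow, ← inv_pow, mul_inv_rev, hsi, hti]
  congr 1
  rw [mul_assoc, mul_assoc, hs, mul_one]

/-- An odd-order element inverted by `s` conjugates `s` to `k ^ 2 * s`. -/
theorem conj_eq_sq_mul {k s : G} (h : s * k * s⁻¹ = k⁻¹) : k * s * k⁻¹ = k * k * s := by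
  have h1 : s * k⁻¹ * s⁻¹ = k := by
    calc s * k⁻¹ * s⁻¹ = (s * k * s⁻¹)⁻¹ := by group
      _ = k := by rw [h, inv_inv]
  rw [mul_assoc k k s, mul_assoc k s, mul_inv_eq_iff_eq_mul.1 h1]

theorem half_conj {t s : G} (ht : t * t = 1) (hs : s * s = 1) (h : Odd (orderOf (t * s))) :
    half t s * s * (half t s)⁻¹ = t := by
  rw [conj_eq_sq_mul (half_inverted ht hs), half_sq h, mul_assoc, hs, mul_one]

/-- Odd-order square roots are unique. -/
theorem eq_of_sq_eq {a b : G} (ha : Odd (orderOf a)) (hb : Odd (orderOf b))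
    (h : a * a = b * b) : a = b := by
  obtain ⟨i, hi⟩ := ha
  obtain ⟨j, hj⟩ := hb
  have hN : ∀ c : G, c ^ ((2 * i + 1) * (2 * j + 1) + 1) = (c * c) ^ (2 * i * j + i + j + 1) :=
    fun c => by rw [← pow_two, ← pow_mul]; congr 1; ring
  have e1 : a ^ ((2 * i + 1) * (2 * j + 1) + 1) = a := by
    rw [pow_succ, pow_mul, ← hi, pow_orderOf_eq_one, one_pow, one_mul]
  have e2 : b ^ ((2 * i + 1) * (2 * j + 1) + 1) = b := by
    rw [pow_succ, mul_comm (2 * i + 1), pow_mul, ← hj, pow_orderOf_eq_one, one_pow, one_mul]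
  rw [← e1, ← e2, hN, hN, h]

/-- There is exactly one odd-order element inverted by the isolated involution `z` conjugating
`z` to a given conjugate. -/
theorem existsUnique_inverted (hz : Cfsg.IsIsolatedInvolution z) {t : G} (ht : IsConj z t) :
    ∃! k : G, (Odd (orderOf k) ∧ z * k * z⁻¹ = k⁻¹) ∧ k * z * k⁻¹ = t := by
  have htt := invol_mul_self (isolated_of_isConj hz ht).1
  have hzz := invol_mul_self hz.1
  have hodd := odd_orderOf_mul hz ht (IsConj.refl z)
  refine ⟨half t z, ⟨⟨odd_orderOf_half hodd, half_inverted htt hzz⟩, half_conj htt hzz hodd⟩, ?_⟩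
  rintro k ⟨⟨hk1, hk2⟩, hk3⟩
  rw [conj_eq_sq_mul hk2] at hk3
  apply eq_of_sq_eq hk1 (odd_orderOf_half hodd)
  rw [half_sq hodd, ← hk3, mul_assoc, hzz, mul_one]

/-- The product of two distinct conjugates does not commute with `z`. -/
theorem eq_of_mul_commute (hz : Cfsg.IsIsolatedInvolution z) {s t : G} (hs : IsConj z s)
    (ht : IsConj z t) {u : G} (hu : IsConj z u) (h : Commute (s * t) u) : s = t := by
  have hss := invol_mul_self (isolated_of_isConj hz hs).1
  have htt := invol_mul_self (isolated_of_isConj hz ht).1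
  have hr := odd_orderOf_mul hz hs ht
  have hw := odd_orderOf_mul hz hu hs
  obtain ⟨n, hn⟩ := hw
  have hsi : s * (s * t) * s⁻¹ = (s * t)⁻¹ := by
    rw [inv_eq_of_mul_eq_one_right hss, invert_mul hss htt]
  have h1 : (u * s) * (s * t) * (u * s)⁻¹ = (s * t)⁻¹ := by
    rw [show (u * s) * (s * t) * (u * s)⁻¹ = u * (s * (s * t) * s⁻¹) * u⁻¹ by group, hsi]
    rw [mul_inv_eq_iff_eq_mul]
    exact h.inv_left.eq.symm
  have h2 : (u * s) ^ 2 * (s * t) * ((u * s) ^ 2)⁻¹ = s * t := by
    rw [pow_two, show u * s * (u * s) * (s * t) * (u * s * (u * s))⁻¹ =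
      u * s * (u * s * (s * t) * (u * s)⁻¹) * (u * s)⁻¹ by group, h1,
      show u * s * (s * t)⁻¹ * (u * s)⁻¹ = (u * s * (s * t) * (u * s)⁻¹)⁻¹ by group, h1, inv_inv]
  have h3 : Commute ((u * s) ^ 2) (s * t) := mul_inv_eq_iff_eq_mul.1 h2
  have h4 : Commute (u * s) (s * t) := by
    have e : ((u * s) ^ 2) ^ (n + 1) = u * s := by
      rw [← pow_mul, show 2 * (n + 1) = (2 * n + 1) + 1 by ring, pow_succ, ← hn,
        pow_orderOf_eq_one, one_mul]
    exact e ▸ h3.pow_left (n + 1)
  rw [h4.eq, mul_inv_cancel_right] at h1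
  have : (s * t) ^ 2 = 1 := by rw [pow_two]; exact eq_inv_iff_mul_eq_one.1 h1
  have hd : orderOf (s * t) ∣ 2 := orderOf_dvd_of_pow_eq_one this
  have h1' : orderOf (s * t) = 1 := by
    rcases (Nat.dvd_prime Nat.prime_two).1 hd with h' | h'
    · exact h'
    · rw [h'] at hr
      exact absurd hr (by decide)
  rw [orderOf_eq_one_iff] at h1'
  exact (eq_inv_of_mul_eq_one_left h1').trans (inv_eq_of_mul_eq_one_right htt)

end Cfsg.Agent.Lib.IsolatedInvolution.Basic
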