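import Mathlib
import Cfsg.Prelude.Def_TwoFusion
import Cfsg.Agent.Lib.ZStar.Consequences
import Cfsg.Agent.Lib.Cores.InvariantSylow
import Cfsg.Agent.Lib.Cores.Pi
import Cfsg.Agent.S0215

/-!
An isolated involution normalises Sylow subgroups for every prime.
-/

set_option autoImplicit false

namespace Cfsg.Agent.Lib.IsolatedInvolution.InvariantSylow

open Subgroup

variable {G : Type*} [Group G] [Finite G]

theorem commutator_mem {z : G} (hz : Cfsg.IsIsolatedInvolution z) (g : G) :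
    z * g * z⁻¹ * g⁻¹ ∈ Cfsg.oddCore G :=
  ZStar.Consequences.isolated_commutator_mem
    (fun _ _ _ Q t ht htQ h => Cfsg.Agent.S0215.result Q t ht htQ h) hz g

theorem isolated_subgroup {z : G} (hz : Cfsg.IsIsolatedInvolution z) {R : Subgroup G}
    (hzR : z ∈ R) : Cfsg.IsIsolatedInvolution (⟨z, hzR⟩ : R) :=
  ⟨by rw [Subgroup.orderOf_mk]; exact hz.1,
    fun g h => Subtype.ext (hz.2 (g : G) (congrArg Subtype.val h))⟩

/-- An isolated involution normalises a Sylow subgroup for each odd prime. -/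
theorem exists_invariant_sylow {z : G} (hz : Cfsg.IsIsolatedInvolution z) {p : ℕ} [Fact p.Prime]
    (hp : p ≠ 2) : ∃ P : Sylow p G, z ∈ normalizer ((P : Subgroup G) : Set G) := by
  obtain ⟨P₀⟩ : Nonempty (Sylow p G) := inferInstance
  set N := Cfsg.oddCore G with hN
  set M := (P₀ : Subgroup G) ⊔ N with hM
  have hzM : zpowers z ≤ normalizer (M : Set G) := by
    rw [zpowers_le]
    have key : ∀ t : G, (∀ g, t * g * t⁻¹ * g⁻¹ ∈ N) → ∀ w ∈ M, t * w * t⁻¹ ∈ M := by
      intro t ht w hw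
      have h1 := mul_mem (mem_sup_right (ht w) : t * w * t⁻¹ * w⁻¹ ∈ M) hw
      rwa [inv_mul_cancel_right] at h1
    rw [mem_normalizer_iff]
    intro w
    refine ⟨key z (fun g => commutator_mem hz g) w, fun h => ?_⟩
    have hzinv : z⁻¹ = z := inv_eq_of_mul_eq_one_right
      (by rw [← pow_two, ← hz.1, pow_orderOf_eq_one])
    have := key z⁻¹ (fun g => by rw [hzinv]; simpa [hzinv] using commutator_mem hz g) _ h
    simpa [mul_assoc] using this
  have hodd : Odd (Nat.card M) := by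
    refine Odd.of_dvd_nat ?_ (Cores.card_sup_dvd_mul (P₀ : Subgroup G) N)
    refine Odd.mul ?_ Cores.oddCore_odd
    obtain ⟨n, hn⟩ := IsPGroup.iff_card.1 P₀.2
    rw [hn]
    exact ((Fact.out : p.Prime).odd_of_ne_two hp).pow
  have hcop : (Nat.card (zpowers z)).Coprime (Nat.card M) := by
    rw [Nat.card_zpowers, hz.1]
    exact Nat.coprime_two_left.2 hodd
  have : IsMulCommutative (zpowers z) := inferInstance
  obtain ⟨P, hPM, hPp, hPi, hPA⟩ := Cores.InvariantSylow.exists_invariant hzM hcop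
    (Or.inl inferInstance) p
  obtain ⟨n, hn⟩ := IsPGroup.iff_card.1 hPp
  obtain ⟨m, hm⟩ := IsPGroup.iff_card.1 P₀.2
  have h1 : p ^ m ∣ Nat.card P * P.relIndex M := by
    have h2 := (P.subgroupOf M).card_mul_index
    rw [Nat.card_congr (subgroupOfEquivOfLe hPM).toEquiv] at h2
    rw [Subgroup.relIndex, h2, ← hm]
    exact card_dvd_of_le le_sup_left
  have h3 : p ^ m ∣ Nat.card P :=
    (((Fact.out : p.Prime).coprime_iff_not_dvd.2 hPi).pow_left m).dvd_of_dvd_mul_right h1
  obtain ⟨P₁, hP₁⟩ := hPp.exists_le_sylow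
  have heq : P = (P₁ : Subgroup G) := Subgroup.eq_of_le_of_card_ge hP₁ (by
    rw [← P₀.card_eq_multiplicity.trans P₁.card_eq_multiplicity.symm, hm]
    exact Nat.le_of_dvd Nat.card_pos h3)
  exact ⟨P₁, heq ▸ hPA (mem_zpowers z)⟩

/-- The maximal `z`-invariant `p`-subgroups are Sylow subgroups. -/
theorem maximal_invariant {z : G} (hz : Cfsg.IsIsolatedInvolution z) {p : ℕ} [Fact p.Prime]
    {Q : Subgroup G} (hQ : IsPGroup p Q) (hzQ : z ∈ normalizer (Q : Set G))
    (hmax : ∀ R : Subgroup G, IsPGroup p R → z ∈ normalizer (R : Set G) → Q ≤ R → R = Q) :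
    ∃ P : Sylow p G, (P : Subgroup G) = Q := by
  obtain ⟨P, hP⟩ := hQ.exists_le_sylow
  by_cases hp : p = 2
  · subst hp
    have h2 : IsPGroup 2 (Q ⊔ zpowers z : Subgroup G) := hQ.to_sup_of_normal_left'
      (IsPGroup.of_card (n := 1) (by rw [Nat.card_zpowers, hz.1, pow_one])) (zpowers_le.2 hzQ)
    have hzQ' : z ∈ Q := by
      have hm : z ∈ Q ⊔ zpowers z := mem_sup_right (mem_zpowers z)
      rwa [hmax _ h2 (le_normalizer hm) le_sup_left] at hm
    exact ⟨P, hmax _ P.2 (le_normalizer (hP hzQ')) hP⟩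
  refine ⟨P, ?_⟩
  by_contra hne
  set R := normalizer (Q : Set G) with hR
  obtain ⟨T, hT⟩ := exists_invariant_sylow (isolated_subgroup hz (R := R) hzQ) (p := p) hp
  have hQn : (Q.subgroupOf R).Normal := Subgroup.normal_in_normalizer
  have hQT : Q.subgroupOf R ≤ T := by
    obtain ⟨T', hT'⟩ := (hQ.comap_subtype (K := R)).exists_le_sylow
    obtain ⟨g, rfl⟩ := MulAction.exists_smul_eq R T' T
    intro v hv
    have h1 := hQn.conj_mem v hv g⁻¹
    exact ⟨g⁻¹ * v * g⁻¹⁻¹, hT' h1, by show g * (g⁻¹ * v * g⁻¹⁻¹) * g⁻¹ = v; group⟩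
  have hTQ : (T : Subgroup R).map R.subtype = Q := by
    refine hmax _ (T.2.map _) ?_ ?_
    · exact Subgroup.le_normalizer_map _ ⟨_, hT, rfl⟩
    · rw [← map_subgroupOf_eq_of_le (le_normalizer : Q ≤ R)]
      exact map_mono hQT
  obtain ⟨n, hn⟩ := IsPGroup.iff_card.1 hQ
  obtain ⟨m, hm⟩ := IsPGroup.iff_card.1 P.2
  have hlt : n < m := by
    have h1 : Nat.card Q < Nat.card (P : Subgroup G) := by
      refine (card_le_of_le hP).lt_of_ne fun h => hne (Subgroup.eq_of_le_of_card_ge hP h.ge).symm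
    rw [hn, hm] at h1
    exact (Nat.pow_lt_pow_iff_right (Fact.out : p.Prime).one_lt).1 h1
  have hdvd := Sylow.prime_dvd_card_quotient_normalizer
    (((pow_dvd_pow p hlt).trans (by rw [← hm]; exact card_subgroup_dvd_card _))) hn
  apply T.not_dvd_index
  have : (T : Subgroup R) = Q.subgroupOf R := by
    rw [← hTQ, Subgroup.subgroupOf,
      Subgroup.comap_map_eq_self_of_injective (Subgroup.subtype_injective _)]
  rw [this]
  exact hdvd

end Cfsg.Agent.Lib.IsolatedInvolution.InvariantSylow
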